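import Groth.Prelude.Def_SGA7IX
import Mathlib.RingTheory.Henselian
import Mathlib.FieldTheory.IsSepClosed
import Mathlib.RingTheory.DiscreteValuationRing.Basic
import Mathlib.AlgebraicGeometry.Geometrically.Integral

/-!
# Target statements of the Neron model existence package (Prop-valued, to be used as hypotheses by glue)

* `NE`: existence of Neron models of abelian varieties over strictly henselian discrete valuation rings.


-/

set_option autoImplicit false

universe u

open CategoryTheory CategoryTheory.Limits AlgebraicGeometry MonObj

namespace Groth.Agent.Sga7.H736.Interface

/-- Existence of the Neron model over the strictly henselian discrete valuation ring `R`, `K` any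
fraction field of `R`. -/
def NE (R K : Type u) [CommRing R] [IsDomain R] [IsDiscreteValuationRing R] [Field K] [Algebra R K]
    [IsFractionRing R K] : Prop :=
  ∀ (A : Over (Spec (CommRingCat.of K))) [GrpObj A] [IsProper A.hom] [GeometricallyIntegral A.hom],
    ∃ (N : Over (Spec (CommRingCat.of R))) (_ : GrpObj N) (e : (SGA7.genFib R K).obj N ≅ A),
      IsMonHom e.hom ∧ SGA7.IsNeron R K N

/-- The final theorem of the package: `NE` for all strictly henselian discrete valuation rings. -/
def NEAll : Prop :=
  ∀ (R K : Type u) [CommRing R] [IsDomain R] [IsDiscreteValuationRing R] [HenselianLocalRing R]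
    [IsSepClosed (IsLocalRing.ResidueField R)] [Field K] [Algebra R K] [IsFractionRing R K], NE R K

end Groth.Agent.Sga7.H736.Interface
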