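import Groth.Agent.Sga7.H736.Forward
import Mathlib.FieldTheory.Galois.Infinite

/-!
# S4055 from S4054 (Neron–Ogg–Shafarevich over discrete valuation rings) and gluing over a Dedekind domain
-/

set_option autoImplicit false

universe u

open CategoryTheory CategoryTheory.Limits AlgebraicGeometry MonObj
open SGA7

namespace Groth.Agent.Sga7.H736.Backward

open BasePts Center S3210 Forward

/-- The Neron–Ogg–Shafarevich criterion (hard direction), i.e. the statement of S4054. -/
def NOS : Prop :=
  ∀ (R K Ω : Type u) [CommRing R] [IsDomain R] [IsDiscreteValuationRing R] [Field K]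
    [Algebra R K] [IsFractionRing R K] [Field Ω] [Algebra K Ω] [IsSepClosure K Ω]
    (W : ValuationSubring Ω) (_ : SGA7.LiesOver K R W)
    (ℓ : ℕ) (_ : ℓ.Prime) (_ : (ℓ : IsLocalRing.ResidueField R) ≠ 0)
    (A : Over (Spec (CommRingCat.of K))) [GrpObj A] [IsProper A.hom] [GeometricallyIntegral A.hom]
    (_ : ∀ ν : ℕ, SGA7.InertiaTrivialOn W A (ℓ ^ ν)), SGA7.HasGoodReduction R K A

/-- Good reduction over a Dedekind domain is good reduction over all localizations at maximal ideals. -/
def GlueGood : Prop :=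
  ∀ (R K : Type u) [CommRing R] [IsDedekindDomain R] [Field K] [Algebra R K] [IsFractionRing R K]
    (A : Over (Spec (CommRingCat.of K))) [GrpObj A] [IsProper A.hom] [GeometricallyIntegral A.hom]
    (_ : ∀ (q : Ideal R) [q.IsMaximal] (S : Type u) [CommRing S] [Algebra R S] [IsLocalization.AtPrime S q]
      [Algebra S K] [IsScalarTower R S K], SGA7.HasGoodReduction S K A), SGA7.HasGoodReduction R K A

/-- `ℓ` is nonzero in the residue field of a local algebra over `R`. -/
theorem natCast_ne_zero {R S : Type u} [CommRing R] [IsLocalRing R] [CommRing S] [IsLocalRing S]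
    (f : R →+* S) (ℓ : ℕ) (hℓp : (ℓ : IsLocalRing.ResidueField R) ≠ 0) :
    (ℓ : IsLocalRing.ResidueField S) ≠ 0 := by
  have hu : IsUnit (ℓ : R) := by
    by_contra hcon
    apply hℓp
    have : IsLocalRing.residue R (ℓ : R) = 0 := (IsLocalRing.residue_eq_zero_iff _).2 hcon
    rwa [map_natCast] at this
  have hu' : IsUnit (ℓ : S) := by
    have h1 := hu.map f
    rwa [map_natCast] at h1
  have h2 := hu'.map (IsLocalRing.residue S)
  rw [map_natCast] at h2
  exact h2.ne_zero

/-- (ii) ⇒ (i) with `K' ⊂ Ω` finite Galois over `K`. -/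
theorem good_of_fixed (hNOS : NOS.{u}) (hG : GlueGood.{u}) {R K K' Ω : Type u} [CommRing R] [IsDomain R]
    [IsDiscreteValuationRing R] [Field K]
    [Algebra R K] [IsFractionRing R K] [Field Ω] [Algebra K Ω] [IsSepClosure K Ω]
    [Field K'] [Algebra K K'] [Algebra R K'] [IsScalarTower R K K'] [FiniteDimensional K K']
    [IsGalois K K'] [Algebra K' Ω] [IsScalarTower K K' Ω]
    (W : ValuationSubring Ω) (hW : SGA7.LiesOver K R W)
    (ℓ : ℕ) (hℓ : ℓ.Prime) (hℓp : (ℓ : IsLocalRing.ResidueField R) ≠ 0)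
    (A : Over (Spec (CommRingCat.of K))) [GrpObj A] [IsProper A.hom] [GeometricallyIntegral A.hom]
    (h : ∀ σ : Ω ≃ₐ[K'] Ω, IsInertia W σ → ∀ (ν : ℕ) (x : pt (K := K) Ω ⟶ A), x ^ (ℓ ^ ν) = 1 →
      galAct (σ.restrictScalars K) x = x) :
    HasGoodReduction (integralClosure R K') K' (Red.bc (fRK K K') A) := by
  have hfr : IsFractionRing (integralClosure R K') K' :=
    integralClosure.isFractionRing_of_finite_extension K K'
  have hded : IsDedekindDomain (integralClosure R K') := integralClosure.isDedekindDomain R K K'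
  have hp : IsProper (Red.bc (fRK K K') A).hom := by
    change IsProper (pullback.snd A.hom _)
    infer_instance
  have hg : GeometricallyIntegral (Red.bc (fRK K K') A).hom := by
    change GeometricallyIntegral (pullback.snd A.hom _)
    infer_instance
  have hsep : Algebra.IsSeparable K Ω := IsSepClosure.separable
  have hgal : IsGalois K Ω := inferInstance
  have : IsSepClosure K' Ω := ⟨IsSepClosure.sep_closed K,
    Algebra.isSeparable_tower_top_of_isSeparable K K' Ω⟩
  refine hG (integralClosure R K') K' _ ?_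
  intro q _ S _ _ _ _ _
  obtain ⟨τ, hτ⟩ := exists_conj (K' := K') W hW q
  have hle : q.primeCompl ≤ nonZeroDivisors (integralClosure R K') := q.primeCompl_le_nonZeroDivisors
  have : IsFractionRing S K' :=
    IsFractionRing.isFractionRing_of_isDomain_of_isLocalization q.primeCompl S K'
  have hq : q ≠ ⊥ := by
    obtain ⟨ϖ, hϖ⟩ := IsDiscreteValuationRing.exists_irreducible R
    intro h0
    have h1 : algebraMap R (integralClosure R K') ϖ ∈ q := by
      have h2 : ϖ ∈ q.under R := by
        rw [← hτ, show (center K' (conj W τ) (liesOver_conj W hW τ)).under R = _ from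
          center_under (conj W τ) (liesOver_conj W hW τ), hϖ.maximalIdeal_eq]
        exact Ideal.mem_span_singleton_self ϖ
      exact h2
    rw [h0, Ideal.mem_bot] at h1
    have hinj : Function.Injective (algebraMap R K') := by
      rw [IsScalarTower.algebraMap_eq R K K']
      exact (algebraMap K K').injective.comp (IsFractionRing.injective R K)
    apply hϖ.ne_zero
    apply hinj
    rw [map_zero]
    have h3 := congrArg (algebraMap (integralClosure R K') K') h1
    rwa [map_zero, ← IsScalarTower.algebraMap_apply] at h3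
  have : IsDomain S := IsLocalization.isDomain_of_le_nonZeroDivisors S hle
  have : IsDiscreteValuationRing S :=
    IsLocalization.AtPrime.isDiscreteValuationRing_of_dedekind_domain _ hq S
  have hloc : IsLocalization.AtPrime S (center K' (conj W τ) (liesOver_conj W hW τ)) := by
    subst hτ
    infer_instance
  have hWS : LiesOver K' S (conj W τ) := liesOver_of_isLocalization (conj W τ) (liesOver_conj W hW τ) S
  have hℓS : (ℓ : IsLocalRing.ResidueField S) ≠ 0 :=
    natCast_ne_zero ((algebraMap (integralClosure R K') S).comp (algebraMap R (integralClosure R K'))) ℓ hℓp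
  refine hNOS S K' Ω (conj W τ) hWS ℓ hℓ hℓS (Red.bc (fRK K K') A) ?_
  intro ν σ hσ x hx
  apply (ptsEquiv (K' := K') A).injective
  rw [ptsEquiv_galAct]
  refine galAct_eq_of_conj (σ.restrictScalars K) τ (ℓ ^ ν) ?_ (ptsEquiv A x) (by rw [← map_pow, hx, map_one])
  intro y hy
  -- the conjugate `τ⁻¹ σ τ` fixes `K'`
  have hfix : ∀ k : K', (τ⁻¹ * σ.restrictScalars K * τ) (algebraMap K' Ω k) = algebraMap K' Ω k := by
    intro k
    have h1 : ∃ k' : K', τ (algebraMap K' Ω k) = algebraMap K' Ω k' := by
      refine ⟨τ.restrictNormal K' k, ?_⟩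
      rw [AlgEquiv.restrictNormal_commutes]
    obtain ⟨k', hk'⟩ := h1
    change τ⁻¹ (σ (τ (algebraMap K' Ω k))) = _
    rw [hk', AlgEquiv.commutes, ← hk']
    simp
  let ρ : Ω ≃ₐ[K'] Ω := AlgEquiv.ofRingEquiv (f := (τ⁻¹ * σ.restrictScalars K * τ).toRingEquiv) hfix
  have hρ : ρ.restrictScalars K = τ⁻¹ * σ.restrictScalars K * τ := by
    ext z
    rfl
  rw [← hρ]
  refine h ρ ?_ ν y hy
  have h3 : IsInertia W (τ⁻¹ * σ.restrictScalars K * τ) := isInertia_conj W τ (σ.restrictScalars K) hσ
  rw [← hρ] at h3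
  exact h3

/-- S4055 from S4054 and the gluing theorem. -/
theorem main (hNOS : NOS.{u}) (hG : GlueGood.{u}) (R K Ω : Type u) [CommRing R] [IsDomain R]
    [IsDiscreteValuationRing R] [Field K]
    [Algebra R K] [IsFractionRing R K] [Field Ω] [Algebra K Ω] [IsSepClosure K Ω]
    (W : ValuationSubring Ω) (hW : SGA7.LiesOver K R W)
    (ℓ : ℕ) (hℓ : ℓ.Prime) (hℓp : (ℓ : IsLocalRing.ResidueField R) ≠ 0)
    (A : Over (Spec (CommRingCat.of K))) [GrpObj A] [IsProper A.hom] [GeometricallyIntegral A.hom] :
    (∃ (K' : Type u) (_ : Field K') (_ : Algebra K K') (_ : Algebra R K')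
      (_ : IsScalarTower R K K') (_ : FiniteDimensional K K') (_ : Algebra.IsSeparable K K'),
      SGA7.HasGoodReduction (integralClosure R K') K'
        (Red.bc (Spec.map (CommRingCat.ofHom (algebraMap K K'))) A)) ↔
    ∃ π' : OpenSubgroup (Ω ≃ₐ[K] Ω), ∀ σ : Ω ≃ₐ[K] Ω, σ ∈ π' → SGA7.IsInertia W σ →
      ∀ (ν : ℕ) (x : SGA7.Pts Ω A), x ^ (ℓ ^ ν) = 1 → SGA7.galAct σ x = x := by
  have hgal : IsGalois K Ω := inferInstance
  constructor
  · rintro ⟨K', _, _, _, _, _, _, h⟩
    have : IsSepClosed Ω := IsSepClosure.sep_closed K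
    let φ : K' →ₐ[K] Ω := IsSepClosed.lift
    let _ : Algebra K' Ω := φ.toRingHom.toAlgebra
    have : IsScalarTower K K' Ω := IsScalarTower.of_algebraMap_eq (fun x => (φ.commutes x).symm)
    have : FiniteDimensional K φ.fieldRange := φ.toLinearMap.finiteDimensional_range
    refine ⟨⟨φ.fieldRange.fixingSubgroup, φ.fieldRange.fixingSubgroup_isOpen⟩, ?_⟩
    intro σ hσ hI ν x hx
    have hfix : ∀ k : K', σ (algebraMap K' Ω k) = algebraMap K' Ω k := by
      intro k
      exact (IntermediateField.mem_fixingSubgroup_iff _ _).1 hσ (φ k) ⟨k, rfl⟩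
    let ρ : Ω ≃ₐ[K'] Ω := AlgEquiv.ofRingEquiv (f := σ.toRingEquiv) hfix
    have hρ : ρ.restrictScalars K = σ := by
      ext z
      rfl
    have h1 : IsInertia W (ρ.restrictScalars K) := by rwa [hρ]
    have key := fixed_of_good (K' := K') W hW ℓ hℓ hℓp A h ρ h1 ν x hx
    rwa [hρ] at key
  · rintro ⟨π', hπ⟩
    obtain ⟨E, hE1, hE2, hE3⟩ := (krullTopology_mem_nhds_one_iff_of_normal K Ω (π' : Set (Ω ≃ₐ[K] Ω))).1
      (π'.isOpen.mem_nhds π'.one_mem)
    let _ : Algebra R E := ((algebraMap K E).comp (algebraMap R K)).toAlgebra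
    have : IsScalarTower R K E := IsScalarTower.of_algebraMap_eq (fun _ => rfl)
    have : Algebra.IsSeparable K E := inferInstance
    have : IsGalois K E := ⟨⟩
    refine ⟨E, inferInstance, inferInstance, inferInstance, inferInstance, inferInstance, inferInstance, ?_⟩
    refine good_of_fixed hNOS hG W hW ℓ hℓ hℓp A ?_
    intro σ hσ ν x hx
    refine hπ (σ.restrictScalars K) (hE3 ?_) hσ ν x hx
    change σ.restrictScalars K ∈ E.fixingSubgroup
    rw [IntermediateField.mem_fixingSubgroup_iff]
    intro z hz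
    exact σ.commutes (⟨z, hz⟩ : E)

end Groth.Agent.Sga7.H736.Backward
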