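import Groth.Agent.S3210
import Groth.Prelude.Def_Red

/-!
# Points of a base change: `Pts Ω (A_{K'}) ≃* Pts Ω A` for `K ⊂ K' ⊂ Ω`, compatible with the Galois action
-/

set_option autoImplicit false

universe u

open CategoryTheory CategoryTheory.Limits AlgebraicGeometry MonObj
open SGA7

namespace Groth.Agent.Sga7.H736.BasePts

open Sga67.TorsionLift S3210

variable {K K' Ω : Type u} [Field K] [Field K'] [Field Ω] [Algebra K K'] [Algebra K' Ω] [Algebra K Ω]
  [IsScalarTower K K' Ω]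

variable (K K' Ω) in
/-- `Spec Ω` over `Spec K`, viewed as coming from `Spec K'`. -/
noncomputable def down : pt (K := K) Ω ⟶ (Over.map (fRK K K')).obj (pt (K := K') Ω) :=
  Over.homMk (𝟙 _) (by
    dsimp [fRK]
    rw [Category.id_comp, ← Spec.map_comp, ← CommRingCat.ofHom_comp, ← IsScalarTower.algebraMap_eq])

variable (K K' Ω) in
/-- the inverse -/
noncomputable def up : (Over.map (fRK K K')).obj (pt (K := K') Ω) ⟶ pt (K := K) Ω :=
  Over.homMk (𝟙 _) (by
    dsimp [fRK]
    rw [Category.id_comp, ← Spec.map_comp, ← CommRingCat.ofHom_comp, ← IsScalarTower.algebraMap_eq])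

lemma down_up : down K K' Ω ≫ up K K' Ω = 𝟙 _ := by
  ext1
  simp [down, up]

lemma up_down : up K K' Ω ≫ down K K' Ω = 𝟙 _ := by
  ext1
  simp [down, up]

/-- `Ω`-points of the base change to `K'` are the `Ω`-points. -/
noncomputable def ptsEquiv (A : Over (Spec (CommRingCat.of K))) [GrpObj A] :
    (pt (K := K') Ω ⟶ Red.bc (fRK K K') A) ≃* (pt (K := K) Ω ⟶ A) where
  toFun x := down K K' Ω ≫ ((Over.mapPullbackAdj (fRK K K')).homEquiv (pt Ω) A).symm x
  invFun x := ((Over.mapPullbackAdj (fRK K K')).homEquiv (pt Ω) A) (up K K' Ω ≫ x)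
  left_inv x := by
    dsimp only
    rw [← Category.assoc, up_down, Category.id_comp, Equiv.apply_symm_apply]
  right_inv x := by
    dsimp only
    rw [Equiv.symm_apply_apply, ← Category.assoc, down_up, Category.id_comp]
  map_mul' a b := by
    rw [← MonObj.comp_mul]
    congr 1
    exact homEquiv_symm_mul (Over.mapPullbackAdj (fRK K K')) a b

lemma ptsEquiv_apply (A : Over (Spec (CommRingCat.of K))) [GrpObj A]
    (x : pt (K := K') Ω ⟶ Red.bc (fRK K K') A) :
    ptsEquiv A x = down K K' Ω ≫ ((Over.mapPullbackAdj (fRK K K')).homEquiv (pt Ω) A).symm x := rfl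

lemma down_map (σ : Ω ≃ₐ[K'] Ω) :
    down K K' Ω ≫ (Over.map (fRK K K')).map (specAut σ) =
      specAut (σ.restrictScalars K) ≫ down K K' Ω := by
  ext1
  rw [Over.comp_left, Over.comp_left, Over.map_map_left]
  exact (Category.id_comp _).trans (Category.comp_id _).symm

theorem ptsEquiv_galAct {A : Over (Spec (CommRingCat.of K))} [GrpObj A] (σ : Ω ≃ₐ[K'] Ω)
    (x : pt (K := K') Ω ⟶ Red.bc (fRK K K') A) :
    ptsEquiv A (galAct σ x) = galAct (σ.restrictScalars K) (ptsEquiv A x) := by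
  have h1 : ((Over.mapPullbackAdj (fRK K K')).homEquiv (pt Ω) A).symm (galAct σ x) =
      (Over.map (fRK K K')).map (specAut σ) ≫ ((Over.mapPullbackAdj (fRK K K')).homEquiv (pt Ω) A).symm x :=
    (Over.mapPullbackAdj (fRK K K')).homEquiv_naturality_left_symm (specAut σ) x
  rw [ptsEquiv_apply, ptsEquiv_apply, h1, ← Category.assoc, down_map, Category.assoc]
  rfl

theorem isInertia_iff (W : ValuationSubring Ω) (σ : Ω ≃ₐ[K'] Ω) :
    IsInertia W (σ.restrictScalars K) ↔ IsInertia W σ := Iff.rfl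

lemma specAut_mul (σ τ : Ω ≃ₐ[K] Ω) : specAut (K := K) (σ * τ) = specAut σ ≫ specAut τ := by
  ext1
  simp only [specAut, Over.comp_left, Over.homMk_left]
  rw [← Spec.map_comp, ← CommRingCat.ofHom_comp]
  rfl

lemma specAut_one : specAut (K := K) (1 : Ω ≃ₐ[K] Ω) = 𝟙 (pt Ω) := by
  ext1
  simp only [specAut, Over.homMk_left]
  exact Spec.map_id _

theorem galAct_mul {A : Over (Spec (CommRingCat.of K))} (σ τ : Ω ≃ₐ[K] Ω) (x : Pts Ω A) :
    galAct (σ * τ) x = galAct σ (galAct τ x) := by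
  rw [galAct, galAct, galAct, specAut_mul, Category.assoc]

theorem galAct_one {A : Over (Spec (CommRingCat.of K))} (x : Pts Ω A) :
    galAct (1 : Ω ≃ₐ[K] Ω) x = x := by
  rw [galAct, specAut_one, Category.id_comp]

theorem galAct_pow {A : Over (Spec (CommRingCat.of K))} [GrpObj A] (σ : Ω ≃ₐ[K] Ω) (x : Pts Ω A) (n : ℕ) :
    galAct σ (x ^ n) = (galAct σ x) ^ n := by
  rw [galAct, galAct, MonObj.comp_pow]

/-- Conjugation: the fixed points of `τ σ τ⁻¹`. -/
theorem galAct_eq_of_conj {A : Over (Spec (CommRingCat.of K))} [GrpObj A] (σ τ : Ω ≃ₐ[K] Ω) (n : ℕ)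
    (h : ∀ y : Pts Ω A, y ^ n = 1 → galAct (τ⁻¹ * σ * τ) y = y) (x : Pts Ω A) (hx : x ^ n = 1) :
    galAct σ x = x := by
  have h1 := h (galAct τ⁻¹ x) (by rw [← galAct_pow, hx]; exact MonObj.comp_one _)
  rw [← galAct_mul, _root_.mul_assoc, mul_inv_cancel, _root_.mul_one, galAct_mul] at h1
  have h3 : ∀ y : Pts Ω A, galAct τ (galAct τ⁻¹ y) = y := fun y => by
    rw [← galAct_mul, mul_inv_cancel, galAct_one]
  have h2 := congrArg (galAct τ) h1
  rwa [h3, h3] at h2

end Groth.Agent.Sga7.H736.BasePts
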