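import Groth.Prelude.Def_SGA7a
import Mathlib.RingTheory.DedekindDomain.IntegralClosure
import Mathlib.RingTheory.DedekindDomain.Dvr
import Mathlib.RingTheory.Invariant.Galois
import Mathlib.FieldTheory.KrullTopology
import Mathlib.FieldTheory.Normal.Basic
import Mathlib.RingTheory.DiscreteValuationRing.Basic
import Mathlib.RingTheory.Valuation.LocalSubring

/-!
# Centers of valuation subrings on integral closures

`R → K → K' → Ω`, `R' = integralClosure R K'`, `W` a valuation subring of `Ω` lying over the local ring `R`.
* `center`: the prime ideal of `R'` of elements of valuation `< 1`; it is maximal over the maximal ideal of `R`.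
* `liesOver_of_isLocalization`: `W` lies over the localization of `R'` at the center.
* `exists_conj`: if `K'/K` is finite Galois, every maximal ideal of `R'` is the center of a conjugate of `W`.
* `isInertia_comap`: inertia groups of conjugate valuation subrings are conjugate.
-/

set_option autoImplicit false

universe u

namespace Groth.Agent.Sga7.H736.Center

open SGA7

section Val

variable {Ω : Type u} [Field Ω]

theorem valuation_lt_one_iff (W : ValuationSubring Ω) (z : Ω) :
    W.valuation z < 1 ↔ z = 0 ∨ z⁻¹ ∉ W := by
  rcases eq_or_ne z 0 with rfl | hz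
  · simp
  · rw [← ValuationSubring.valuation_le_one_iff, map_inv₀, not_le]
    have hz' : W.valuation z ≠ 0 := (W.valuation.ne_zero_iff).2 hz
    constructor
    · intro h
      right
      exact (one_lt_inv₀ (zero_lt_iff.2 hz')).2 h
    · rintro (h | h)
      · exact absurd h hz
      · exact (one_lt_inv₀ (zero_lt_iff.2 hz')).1 h

/-- The conjugate valuation subring `τ W`. -/
def conj {K : Type u} [Field K] [Algebra K Ω] (W : ValuationSubring Ω) (τ : Ω ≃ₐ[K] Ω) : ValuationSubring Ω :=
  W.comap ((τ⁻¹ : Ω ≃ₐ[K] Ω) : Ω →+* Ω)

variable {K : Type u} [Field K] [Algebra K Ω]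

theorem mem_conj (W : ValuationSubring Ω) (τ : Ω ≃ₐ[K] Ω) (x : Ω) :
    x ∈ conj W τ ↔ τ⁻¹ x ∈ W := ValuationSubring.mem_comap

theorem valuation_conj (W : ValuationSubring Ω) (τ : Ω ≃ₐ[K] Ω) (x : Ω) :
    (conj W τ).valuation x < 1 ↔ W.valuation (τ⁻¹ x) < 1 := by
  rw [valuation_lt_one_iff, valuation_lt_one_iff, mem_conj, map_inv₀]
  simp

theorem isInertia_conj (W : ValuationSubring Ω) (τ σ : Ω ≃ₐ[K] Ω) (h : IsInertia (conj W τ) σ) :
    IsInertia W (τ⁻¹ * σ * τ) := by
  intro x hx
  have h1 : τ x ∈ conj W τ := by
    rw [mem_conj]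
    simpa using hx
  obtain ⟨h2, h3⟩ := h (τ x) h1
  rw [mem_conj] at h2
  rw [valuation_conj, map_sub] at h3
  refine ⟨h2, ?_⟩
  have h4 : τ⁻¹ (τ x) = x := by simp
  rw [h4] at h3
  exact h3

end Val

section Center

variable {R K K' Ω : Type u} [CommRing R] [IsLocalRing R] [Field K] [Algebra R K]
  [Field K'] [Algebra K K'] [Algebra R K'] [IsScalarTower R K K'] [Field Ω] [Algebra K Ω] [Algebra K' Ω]
  [IsScalarTower K K' Ω]

theorem mem_of_isIntegral (W : ValuationSubring Ω) (hW : LiesOver K R W) (x : integralClosure R K') :
    algebraMap K' Ω x ∈ W := by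
  obtain ⟨p, hp, hx⟩ := x.2
  let f : R →+* W := ((algebraMap K Ω).comp (algebraMap R K)).codRestrict W.toSubring hW.1
  have h : IsIntegral W (algebraMap K' Ω x) := by
    refine ⟨p.map f, hp.map f, ?_⟩
    rw [Polynomial.eval₂_map]
    have h2 : (algebraMap W Ω).comp f = (algebraMap K' Ω).comp (algebraMap R K') := by
      ext r
      change algebraMap K Ω (algebraMap R K r) = algebraMap K' Ω (algebraMap R K' r)
      rw [IsScalarTower.algebraMap_apply R K K', ← IsScalarTower.algebraMap_apply K K' Ω]
    rw [h2, ← Polynomial.hom_eval₂, hx, map_zero]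
  obtain ⟨y, hy⟩ := IsIntegrallyClosed.isIntegral_iff.1 h
  rw [← hy]
  exact y.2

/-- the map from the integral closure to the valuation subring. -/
noncomputable def toW (W : ValuationSubring Ω) (hW : LiesOver K R W) : integralClosure R K' →+* W :=
  ((algebraMap K' Ω).comp (algebraMap (integralClosure R K') K')).codRestrict W.toSubring
    (mem_of_isIntegral W hW)

variable (K') in
/-- the center of `W` on the integral closure `R'`. -/
noncomputable def center (W : ValuationSubring Ω) (hW : LiesOver K R W) : Ideal (integralClosure R K') :=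
  (IsLocalRing.maximalIdeal W).comap (toW W hW)

theorem mem_center (W : ValuationSubring Ω) (hW : LiesOver K R W) (x : integralClosure R K') :
    x ∈ center K' W hW ↔ W.valuation (algebraMap K' Ω x) < 1 := by
  rw [center, Ideal.mem_comap, ValuationSubring.valuation_lt_one_iff]
  rfl

instance isPrime_center (W : ValuationSubring Ω) (hW : LiesOver K R W) : (center K' W hW).IsPrime :=
  Ideal.comap_isPrime _ _

theorem center_under (W : ValuationSubring Ω) (hW : LiesOver K R W) :
    (center K' W hW).under R = IsLocalRing.maximalIdeal R := by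
  symm
  refine (IsLocalRing.maximalIdeal.isMaximal R).eq_of_le (Ideal.IsPrime.ne_top inferInstance) ?_
  intro r hr
  rw [Ideal.under_def, Ideal.mem_comap, mem_center]
  have h := hW.2 r hr
  rw [IsScalarTower.algebraMap_apply K K' Ω, ← IsScalarTower.algebraMap_apply R K K'] at h
  exact h

instance isMaximal_center (W : ValuationSubring Ω) (hW : LiesOver K R W) : (center K' W hW).IsMaximal := by
  apply Ideal.isMaximal_of_isIntegral_of_isMaximal_comap (R := R)
  have := center_under (K' := K') W hW
  rw [Ideal.under_def] at this
  rw [this]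
  infer_instance

/-- `W` lies over the localization of `R'` at the center of `W`. -/
theorem liesOver_of_isLocalization (W : ValuationSubring Ω) (hW : LiesOver K R W)
    (S : Type u) [CommRing S] [IsLocalRing S] [Algebra (integralClosure R K') S]
    [IsLocalization.AtPrime S (center K' W hW)] [Algebra S K'] [IsScalarTower (integralClosure R K') S K'] :
    LiesOver K' S W := by
  have hunit : ∀ s ∈ (center K' W hW).primeCompl, (algebraMap K' Ω (s : K'))⁻¹ ∈ W := by
    intro s hs
    have h1 : s ∉ center K' W hW := hs
    rw [mem_center, valuation_lt_one_iff, not_or, not_not] at h1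
    exact h1.2
  have key : ∀ (a : integralClosure R K') (s : (center K' W hW).primeCompl),
      algebraMap K' Ω (algebraMap S K' (IsLocalization.mk' S a s)) =
        algebraMap K' Ω (a : K') * (algebraMap K' Ω ((s : integralClosure R K') : K'))⁻¹ := by
    intro a s
    have hs0 : algebraMap K' Ω (((s : integralClosure R K') : K')) ≠ 0 := by
      intro h0
      have h1 := s.2
      have h2 : (s : integralClosure R K') ∉ center K' W hW := h1
      apply h2
      rw [mem_center, valuation_lt_one_iff]
      exact Or.inl h0
    rw [eq_mul_inv_iff_mul_eq₀ hs0, ← map_mul]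
    congr 1
    have h1 := IsLocalization.mk'_spec S a s
    have h2 := congrArg (algebraMap S K') h1
    rw [map_mul, ← IsScalarTower.algebraMap_apply, ← IsScalarTower.algebraMap_apply] at h2
    exact h2
  constructor
  · intro x
    obtain ⟨a, s, rfl⟩ := IsLocalization.exists_mk'_eq (center K' W hW).primeCompl x
    rw [key]
    exact W.mul_mem _ _ (mem_of_isIntegral W hW a) (hunit _ s.2)
  · intro x hx
    obtain ⟨a, s, rfl⟩ := IsLocalization.exists_mk'_eq (center K' W hW).primeCompl x
    rw [key, map_mul]
    have ha : a ∈ center K' W hW := by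
      rw [← IsLocalization.AtPrime.to_map_mem_maximal_iff S (center K' W hW)]
      rw [← IsLocalization.mk'_spec S a s]
      exact Ideal.mul_mem_right _ _ hx
    rw [mem_center] at ha
    exact mul_lt_one_of_lt_of_le ha ((ValuationSubring.valuation_le_one_iff _ _).2 (hunit _ s.2))

theorem liesOver_conj (W : ValuationSubring Ω) (hW : LiesOver K R W) (τ : Ω ≃ₐ[K] Ω) :
    LiesOver K R (conj W τ) := by
  constructor
  · intro r
    rw [mem_conj, AlgEquiv.commutes]
    exact hW.1 r
  · intro r hr
    rw [valuation_conj, AlgEquiv.commutes]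
    exact hW.2 r hr

end Center

section Conj

variable {R K K' Ω : Type u} [CommRing R] [IsDomain R] [IsLocalRing R] [IsIntegrallyClosed R] [Field K]
  [Algebra R K] [IsFractionRing R K]
  [Field K'] [Algebra K K'] [Algebra R K'] [IsScalarTower R K K'] [Field Ω] [Algebra K Ω] [Algebra K' Ω]
  [IsScalarTower K K' Ω]

open scoped Pointwise in
/-- Every maximal ideal of `R'` is the center of a conjugate of `W`. -/
theorem exists_conj [FiniteDimensional K K'] [IsGalois K K'] [Normal K Ω] (W : ValuationSubring Ω)
    (hW : LiesOver K R W) (q : Ideal (integralClosure R K')) [q.IsMaximal] :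
    ∃ τ : Ω ≃ₐ[K] Ω, center K' (conj W τ) (liesOver_conj W hW τ) = q := by
  let _ : MulSemiringAction Gal(K'/K) (integralClosure R K') :=
    IsIntegralClosure.MulSemiringAction R K K' (integralClosure R K')
  have : IsFractionRing (integralClosure R K') K' :=
    integralClosure.isFractionRing_of_finite_extension K K'
  have : Algebra.IsInvariant R (integralClosure R K') Gal(K'/K) :=
    Algebra.isInvariant_of_isGalois R K K' (integralClosure R K')
  have hsmul : ∀ (g : Gal(K'/K)) (x : integralClosure R K'), ((g • x : integralClosure R K') : K') = g (x : K') :=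
    fun g x => algebraMap_galRestrict_apply R g x
  have : SMulCommClass Gal(K'/K) R (integralClosure R K') := by
    refine ⟨fun g r x => Subtype.ext ?_⟩
    rw [hsmul]
    change g (r • (x : K')) = r • (((g • x : integralClosure R K') : K'))
    rw [hsmul, Algebra.smul_def, Algebra.smul_def, map_mul, IsScalarTower.algebraMap_apply R K K',
      AlgEquiv.commutes]
  have hq : q.under R = IsLocalRing.maximalIdeal R :=
    IsLocalRing.eq_maximalIdeal (Ideal.isMaximal_comap_of_isIntegral_of_isMaximal q)
  obtain ⟨g, hg⟩ := Algebra.IsInvariant.exists_smul_of_under_eq R (integralClosure R K') Gal(K'/K)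
    (center K' W hW) q ((center_under W hW).trans hq.symm)
  refine ⟨g.liftNormal Ω, ?_⟩
  ext x
  rw [mem_center, valuation_conj, hg, Ideal.mem_pointwise_smul_iff_inv_smul_mem, mem_center]
  have h1 : (g.liftNormal Ω)⁻¹ (algebraMap K' Ω (x : K')) = algebraMap K' Ω (g⁻¹ (x : K')) := by
    apply (g.liftNormal Ω).injective
    rw [AlgEquiv.liftNormal_commutes]
    simp
  rw [h1, hsmul]

end Conj

end Groth.Agent.Sga7.H736.Center
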