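import Groth.Agent.Sga7.H736.BasePts
import Groth.Agent.Sga7.H736.Center
import Groth.Prelude.Def_SGA7IX

/-!
# Potential good reduction implies triviality of the action of an open subgroup of inertia
-/

set_option autoImplicit false

universe u

open CategoryTheory CategoryTheory.Limits AlgebraicGeometry MonObj
open SGA7

namespace Groth.Agent.Sga7.H736.Forward

open BasePts Center S3210

/-- Good reduction passes to a localization `S` (or any extension) of the base. -/
theorem good_of_map {R' S K' : Type u} [CommRing R'] [CommRing S] [Field K'] [Algebra R' S] [Algebra R' K']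
    [Algebra S K'] [IsScalarTower R' S K'] (A : Over (Spec (CommRingCat.of K'))) [GrpObj A]
    (h : HasGoodReduction R' K' A) :
    ∃ (B : Over (Spec (CommRingCat.of S))) (_ : GrpObj B), IsProper B.hom ∧ Smooth B.hom ∧
        (∀ (k' : Type u) [Field k'] (t : Spec (CommRingCat.of k') ⟶ Spec (CommRingCat.of S)),
          ConnectedSpace ↑(pullback B.hom t)) ∧
        Nonempty ((Over.pullback (Spec.map (CommRingCat.ofHom (algebraMap S K')))).obj B ≅ A) := by
  obtain ⟨B₀, _, e, he, h1, h2, h3⟩ := h
  let g : Spec (CommRingCat.of S) ⟶ Spec (CommRingCat.of R') := Spec.map (CommRingCat.ofHom (algebraMap R' S))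
  refine ⟨Red.bc g B₀, inferInstance, ?_, ?_, ?_, ?_⟩
  · change IsProper (pullback.snd B₀.hom g)
    infer_instance
  · change Smooth (pullback.snd B₀.hom g)
    infer_instance
  · intro k' _ t
    have h4 := h3 k' (t ≫ g)
    let i : pullback (pullback.snd B₀.hom g) t ≅ pullback B₀.hom (t ≫ g) := pullbackLeftPullbackSndIso B₀.hom g t
    exact (Scheme.homeoOfIso i).symm.surjective.connectedSpace (Scheme.homeoOfIso i).symm.continuous
  · have hcomp : Spec.map (CommRingCat.ofHom (algebraMap S K')) ≫ g =
        Spec.map (CommRingCat.ofHom (algebraMap R' K')) := by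
      rw [← Spec.map_comp, ← CommRingCat.ofHom_comp, ← IsScalarTower.algebraMap_eq]
    have key : ∀ (m : Spec (CommRingCat.of K') ⟶ Spec (CommRingCat.of R')),
        Spec.map (CommRingCat.ofHom (algebraMap S K')) ≫ g = m →
        Nonempty ((Over.pullback (Spec.map (CommRingCat.ofHom (algebraMap S K')))).obj (Red.bc g B₀) ≅
          (Over.pullback m).obj B₀) := by
      rintro _ rfl
      exact ⟨(Over.pullbackComp (Spec.map (CommRingCat.ofHom (algebraMap S K'))) g).symm.app B₀⟩
    obtain ⟨i⟩ := key _ hcomp
    exact ⟨i ≪≫ e⟩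

/-- the direction (i) ⇒ (ii) with `K'` inside `Ω`. -/
theorem fixed_of_good {R K K' Ω : Type u} [CommRing R] [IsDomain R] [IsDiscreteValuationRing R] [Field K]
    [Algebra R K] [IsFractionRing R K] [Field Ω] [Algebra K Ω] [IsSepClosure K Ω]
    [Field K'] [Algebra K K'] [Algebra R K'] [IsScalarTower R K K'] [FiniteDimensional K K']
    [Algebra.IsSeparable K K'] [Algebra K' Ω] [IsScalarTower K K' Ω]
    (W : ValuationSubring Ω) (hW : SGA7.LiesOver K R W)
    (ℓ : ℕ) (hℓ : ℓ.Prime) (hℓp : (ℓ : IsLocalRing.ResidueField R) ≠ 0)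
    (A : Over (Spec (CommRingCat.of K))) [GrpObj A] [IsProper A.hom] [GeometricallyIntegral A.hom]
    (h : HasGoodReduction (integralClosure R K') K' (Red.bc (fRK K K') A))
    (σ : Ω ≃ₐ[K'] Ω) (hσ : IsInertia W σ) (ν : ℕ) (x : pt (K := K) Ω ⟶ A) (hx : x ^ (ℓ ^ ν) = 1) :
    galAct (σ.restrictScalars K) x = x := by
  have hfr : IsFractionRing (integralClosure R K') K' :=
    integralClosure.isFractionRing_of_finite_extension K K'
  have hded : IsDedekindDomain (integralClosure R K') := integralClosure.isDedekindDomain R K K'
  let 𝔭 := center K' W hW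
  let S := Localization.AtPrime 𝔭
  have hle : 𝔭.primeCompl ≤ nonZeroDivisors (integralClosure R K') := 𝔭.primeCompl_le_nonZeroDivisors
  let _ : Algebra S K' := (IsLocalization.lift (M := 𝔭.primeCompl) (S := S)
    (g := algebraMap (integralClosure R K') K')
    (fun y => IsLocalization.map_units K' (⟨y.1, hle y.2⟩ : nonZeroDivisors (integralClosure R K')))).toAlgebra
  have : IsScalarTower (integralClosure R K') S K' := IsScalarTower.of_algebraMap_eq (fun r =>
    (IsLocalization.lift_eq (M := 𝔭.primeCompl) (S := S) _ r).symm)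
  have : IsFractionRing S K' :=
    IsFractionRing.isFractionRing_of_isDomain_of_isLocalization 𝔭.primeCompl S K'
  have h𝔭 : 𝔭 ≠ ⊥ := by
    obtain ⟨ϖ, hϖ⟩ := IsDiscreteValuationRing.exists_irreducible R
    intro h0
    have h1 : algebraMap R (integralClosure R K') ϖ ∈ 𝔭 := by
      have h2 : ϖ ∈ 𝔭.under R := by
        rw [show 𝔭.under R = _ from center_under W hW, hϖ.maximalIdeal_eq]
        exact Ideal.mem_span_singleton_self ϖ
      exact h2
    rw [h0, Ideal.mem_bot] at h1
    have hinj : Function.Injective (algebraMap R K') := by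
      rw [IsScalarTower.algebraMap_eq R K K']
      exact (algebraMap K K').injective.comp (IsFractionRing.injective R K)
    apply hϖ.ne_zero
    apply hinj
    rw [map_zero]
    have h3 := congrArg (algebraMap (integralClosure R K') K') h1
    rwa [map_zero, ← IsScalarTower.algebraMap_apply] at h3
  have : IsDomain S := IsLocalization.isDomain_localization hle
  have : IsDiscreteValuationRing S :=
    IsLocalization.AtPrime.isDiscreteValuationRing_of_dedekind_domain _ h𝔭 S
  have : IsSepClosure K' Ω := ⟨IsSepClosure.sep_closed K, by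
    have : Algebra.IsSeparable K Ω := IsSepClosure.separable
    exact Algebra.isSeparable_tower_top_of_isSeparable K K' Ω⟩
  have hWS : LiesOver K' S W := liesOver_of_isLocalization W hW S
  have hℓS : (ℓ : IsLocalRing.ResidueField S) ≠ 0 := by
    have hu : IsUnit (ℓ : R) := by
      by_contra hcon
      apply hℓp
      have : IsLocalRing.residue R (ℓ : R) = 0 := (IsLocalRing.residue_eq_zero_iff _).2 hcon
      rwa [map_natCast] at this
    have hu' : IsUnit (ℓ : S) := by
      have h1 := hu.map ((algebraMap (integralClosure R K') S).comp (algebraMap R (integralClosure R K')))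
      rwa [map_natCast] at h1
    have h2 := hu'.map (IsLocalRing.residue S)
    rw [map_natCast] at h2
    exact h2.ne_zero
  have hp : IsProper (Red.bc (fRK K K') A).hom := by
    change IsProper (pullback.snd A.hom _)
    infer_instance
  have hg : GeometricallyIntegral (Red.bc (fRK K K') A).hom := by
    change GeometricallyIntegral (pullback.snd A.hom _)
    infer_instance
  have key := Groth.Agent.S3210.result S K' Ω W hWS ℓ hℓ hℓS (Red.bc (fRK K K') A)
    (good_of_map (R' := integralClosure R K') (S := S) _ h) ν σ hσ ((ptsEquiv A).symm x) (by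
      rw [← map_pow, hx, map_one])
  have h1 := ptsEquiv_galAct σ ((ptsEquiv (K' := K') A).symm x)
  rw [key, MulEquiv.apply_symm_apply] at h1
  exact h1.symm

end Groth.Agent.Sga7.H736.Forward
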