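import Groth.Agent.Sga7.H736.LocExt

/-!
# Gluing group schemes over a locally directed open covering, along a common generic fibre

`γ : E ⟶ S` quasi-compact and schematically dominant (the generic point), `𝒰` a locally directed
open covering of `S` through which `γ` factors.  `G j` flat separated group schemes over `U j` with
generic fibre `A`, such that for `i ≤ j` the group `G i` is the restriction of `G j` as a scheme, compatibly with the
generic fibres.  Then there is a group scheme `X` over `S` inducing all of them.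
-/

set_option autoImplicit false
universe u

open CategoryTheory CategoryTheory.Limits AlgebraicGeometry MonoidalCategory
  CartesianMonoidalCategory MonObj GrpObj

namespace Groth.Agent.Sga7.H736.GrpGlue

open Groth.Agent.Sga7.H516 Groth.Agent.Sga7.H516.GenExt Groth.Agent.Sga7.H116.L1 RelGlue LocExt
open Groth.Agent.Sga7.H516.GrpDescent (genIso genIso_hom_left bcEquiv_left_fst)
open Groth.Agent.Sga3B.BcPts

variable {S E : Scheme.{u}} {γ : E ⟶ S} {J : Type u} [Preorder J] {𝒰 : Dir S J}
  (κ : ∀ j, E ⟶ 𝒰.U j)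

section Gen

variable (G : ∀ j, Over (𝒰.U j)) {A : Over E} (e : ∀ j, Red.bc (κ j) (G j) ≅ A)

/-- The inclusion of the generic fibre. -/
noncomputable def gen (j : J) : A.left ⟶ (G j).left :=
  (e j).inv.left ≫ pullback.fst (G j).hom (κ j)

theorem isPullback_gen (j : J) : IsPullback (gen κ G e j) A.hom (G j).hom (κ j) := by
  have h2 : (e j).inv.left ≫ pullback.snd (G j).hom (κ j) = A.hom := Over.w (e j).inv
  refine IsPullback.of_iso_pullback ⟨?_⟩ ((Over.forget _).mapIso (e j).symm) rfl h2
  rw [gen, Category.assoc, pullback.condition, reassoc_of% h2]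

/-- The comparison of points. -/
noncomputable def cmp (j : J) (W : Over E) (u : (Over.map (κ j)).obj W ⟶ G j) : W ⟶ A :=
  bcEquiv (κ j) W (G j) u ≫ (e j).hom

theorem left_cmp (j : J) (W : Over E) (u : (Over.map (κ j)).obj W ⟶ G j) :
    (cmp κ G e j W u).left ≫ gen κ G e j = u.left := by
  have h1 : (e j).hom.left ≫ (e j).inv.left = 𝟙 _ := by
    rw [← Over.comp_left, Iso.hom_inv_id]
    rfl
  rw [cmp, gen, Over.comp_left, Category.assoc, reassoc_of% h1]
  exact bcEquiv_left_fst (κ j) W (G j) u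

variable [∀ j, GrpObj (G j)] [GrpObj A] [∀ j, IsMonHom (e j).hom]

theorem cmp_mul (j : J) (W : Over E) (u v : (Over.map (κ j)).obj W ⟶ G j) :
    cmp κ G e j W (u * v) = cmp κ G e j W u * cmp κ G e j W v := by
  rw [cmp, bcEquiv_mul, MonObj.mul_comp]
  rfl

theorem cmp_one (j : J) (W : Over E) :
    cmp κ G e j W (1 : (Over.map (κ j)).obj W ⟶ G j) = 1 := by
  rw [cmp, bcEquiv_one, MonObj.one_comp]

theorem cmp_inv (j : J) (W : Over E) (u : (Over.map (κ j)).obj W ⟶ G j) :
    cmp κ G e j W u⁻¹ = (cmp κ G e j W u)⁻¹ := by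
  rw [eq_inv_iff_mul_eq_one, ← cmp_mul, inv_mul_cancel, cmp_one]

end Gen

section Point

variable [Nonempty J] [IsSchemeTheoreticallyDominant γ] [QuasiCompact γ] (hκ : ∀ j, κ j ≫ 𝒰.f j = γ)
  {G : ∀ j, Over (𝒰.U j)} {A : Over E} {e : ∀ j, Red.bc (κ j) (G j) ≅ A}
  {X : Over S} {a : A.left ⟶ X.left} (ha : IsPullback a A.hom X.hom γ)
  {q : ∀ j, (G j).left ⟶ X.left} (hq : ∀ j, IsPullback (q j) (G j).hom X.hom (𝒰.f j))
  (hgen : ∀ j, gen κ G e j ≫ q j = a)

theorem map_left_fst {S S' : Scheme.{u}} (f : S' ⟶ S) {T X : Over S} (x : T ⟶ X) :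
    ((Over.pullback f).map x).left ≫ pullback.fst X.hom f = pullback.fst T.hom f ≫ x.left :=
  pullback.lift_fst _ _ _

include hgen in
omit [Nonempty J] [IsSchemeTheoreticallyDominant γ] [QuasiCompact γ] in
theorem cmp_point {T : Over S} (x : T ⟶ X) (j : J)
    (w : (Over.map (κ j)).obj ((Over.pullback γ).obj T) ⟶ (Over.pullback (𝒰.f j)).obj T)
    (hw : w.left ≫ pullback.fst T.hom (𝒰.f j) = pullback.fst T.hom γ) :
    cmp κ G e j _ (w ≫ (Over.pullback (𝒰.f j)).map x ≫ (genIso (hq j)).hom) =
      (Over.pullback γ).map x ≫ (genIso ha).hom := by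
  ext1
  apply ha.hom_ext
  · have h1 : ∀ y : (Over.pullback γ).obj T ⟶ A, y.left ≫ a = (y.left ≫ gen κ G e j) ≫ q j := by
      intro y
      rw [Category.assoc, hgen]
    have h2 : ((Over.pullback γ).map x ≫ (genIso ha).hom).left ≫ a =
        pullback.fst T.hom γ ≫ x.left := by
      rw [Over.comp_left, Category.assoc, genIso_hom_left, map_left_fst]
    rw [h2, h1, left_cmp, Over.comp_left, Over.comp_left, Category.assoc, Category.assoc,
      genIso_hom_left, map_left_fst, reassoc_of% hw]
  · rw [Over.w, Over.w]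

include hκ hgen in
/-- Points of `X` from compatible generic and local points. -/
theorem exists_point [IsSeparated X.hom] (T : Over S) [Flat T.hom] (f : (Over.pullback γ).obj T ⟶ A)
    (g : ∀ j, (Over.pullback (𝒰.f j)).obj T ⟶ G j)
    (hfg : ∀ (j) (w : (Over.map (κ j)).obj ((Over.pullback γ).obj T) ⟶
      (Over.pullback (𝒰.f j)).obj T), w.left ≫ pullback.fst T.hom (𝒰.f j) =
        pullback.fst T.hom γ → cmp κ G e j _ (w ≫ g j) = f) :
    ∃ h : T ⟶ X, (Over.pullback γ).map h ≫ (genIso ha).hom = f ∧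
      ∀ j, (Over.pullback (𝒰.f j)).map h ≫ (genIso (hq j)).hom = g j := by
  obtain ⟨h, h1, h2, h3⟩ := exists_of_local 𝒰 κ hκ (t := T.hom) (y := X.hom)
    (IsPullback.of_hasPullback T.hom γ) (f.left ≫ a) (fun j => (g j).left ≫ q j)
    (fun j => by
      have h4 : (g j).left ≫ (G j).hom = pullback.snd T.hom (𝒰.f j) := Over.w (g j)
      rw [Category.assoc, (hq j).w, reassoc_of% h4, ← pullback.condition])
    (fun j w hw => by
      have h5 : pullback.fst T.hom γ ≫ T.hom = pullback.snd T.hom γ ≫ γ := pullback.condition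
      let w' : (Over.map (κ j)).obj ((Over.pullback γ).obj T) ⟶ (Over.pullback (𝒰.f j)).obj T :=
        Over.homMk w (by
          change w ≫ pullback.snd T.hom (𝒰.f j) = pullback.snd T.hom γ ≫ κ j
          rw [← cancel_mono (𝒰.f j), Category.assoc, Category.assoc, hκ, ← pullback.condition,
            reassoc_of% hw, h5])
      have h6 := congrArg (fun t => t.left ≫ gen κ G e j) (hfg j w' hw)
      rw [left_cmp, Over.comp_left] at h6
      change w ≫ (g j).left = _ at h6
      rw [reassoc_of% h6, hgen])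
  refine ⟨Over.homMk h h1, ?_, fun j => ?_⟩
  · ext1
    apply ha.hom_ext
    · rw [Over.comp_left, Category.assoc, genIso_hom_left, map_left_fst, ← h2]
      rfl
    · rw [Over.w, Over.w]
  · ext1
    apply (hq j).hom_ext
    · rw [Over.comp_left, Category.assoc, genIso_hom_left, map_left_fst, ← h3]
      rfl
    · rw [Over.w, Over.w]

include hκ hgen in
/-- The group structure. -/
theorem exists_grpObj [∀ j, GrpObj (G j)] [GrpObj A] [∀ j, IsMonHom (e j).hom]
    [IsSeparated X.hom] [Flat X.hom] :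
    ∃ _ : GrpObj X, IsMonHom (genIso ha).hom ∧ ∀ j, IsMonHom (genIso (hq j)).hom := by
  have hinj : ∀ T : Over S, Flat T.hom →
      Function.Injective (fun c : T ⟶ X => (Over.pullback γ).map c) := by
    intro T hT c c' hcc
    ext1
    refine ext_of_generic (x := T.hom) (y := X.hom) (IsPullback.of_hasPullback T.hom γ)
      ((Over.w c).trans (Over.w c').symm) ?_
    have h1 := congrArg (fun t => t.left ≫ pullback.fst X.hom γ) hcc
    dsimp only at h1
    rw [map_left_fst, map_left_fst] at h1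
    exact h1
  have hmul : ∀ T : Over S, Flat T.hom → ∀ c d : T ⟶ X, ∃ m : T ⟶ X,
      (Over.pullback γ).map m ≫ (genIso ha).hom = ((Over.pullback γ).map c ≫ (genIso ha).hom) *
        ((Over.pullback γ).map d ≫ (genIso ha).hom) ∧
      ∀ j, (Over.pullback (𝒰.f j)).map m ≫ (genIso (hq j)).hom =
        ((Over.pullback (𝒰.f j)).map c ≫ (genIso (hq j)).hom) *
          ((Over.pullback (𝒰.f j)).map d ≫ (genIso (hq j)).hom) := by
    intro T hT c d
    refine exists_point κ hκ ha hq hgen T _ _ fun j w hw => ?_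
    rw [MonObj.comp_mul, cmp_mul, cmp_point κ ha hq hgen c j w hw,
      cmp_point κ ha hq hgen d j w hw]
  have hone : ∃ m : 𝟙_ (Over S) ⟶ X, (Over.pullback γ).map m ≫ (genIso ha).hom = 1 ∧
      ∀ j, (Over.pullback (𝒰.f j)).map m ≫ (genIso (hq j)).hom = 1 := by
    have : Flat (𝟙_ (Over S)).hom := inferInstanceAs (Flat (𝟙 S))
    refine exists_point κ hκ ha hq hgen _ _ _ fun j w hw => ?_
    rw [MonObj.comp_one, cmp_one]
  have hinv : ∀ c : X ⟶ X, ∃ m : X ⟶ X,
      (Over.pullback γ).map m ≫ (genIso ha).hom = ((Over.pullback γ).map c ≫ (genIso ha).hom)⁻¹ := by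
    intro c
    obtain ⟨m, hm, -⟩ := exists_point κ hκ ha hq hgen X
      ((Over.pullback γ).map c ≫ (genIso ha).hom)⁻¹
      (fun j => ((Over.pullback (𝒰.f j)).map c ≫ (genIso (hq j)).hom)⁻¹) fun j w hw => by
        rw [GrpObj.comp_inv, cmp_inv, cmp_point κ ha hq hgen c j w hw]
    exact ⟨m, hm⟩
  obtain ⟨inst, hinst⟩ := GrpFaithful.exists_grpObj (F := Over.pullback γ) (e := genIso ha)
    (fun T => Flat T.hom) (inferInstanceAs (Flat (𝟙 S)))
    (fun T T' h h' => by
      have : Flat T.hom := h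
      have : Flat T'.hom := h'
      exact inferInstanceAs (Flat (pullback.fst T.hom T'.hom ≫ T.hom)))
    inferInstance hinj (fun T hT c d => by
      obtain ⟨m, hm, -⟩ := hmul T hT c d
      exact ⟨m, hm⟩) (by
      obtain ⟨m, hm, -⟩ := hone
      exact ⟨m, hm⟩) hinv
  refine ⟨inst, hinst, fun j => GrpFaithful.isMonHom_of_im ?_ ?_⟩
  · have hfl : Flat (X ⊗ X).hom := inferInstanceAs (Flat (pullback.fst X.hom X.hom ≫ X.hom))
    obtain ⟨m, hm, hm'⟩ := hmul (X ⊗ X) hfl (fst X X) (snd X X)
    have h1 : m = μ[X] := by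
      apply hinj _ hfl
      dsimp only
      rw [← cancel_mono (genIso ha).hom, hm, ← MonObj.mul_comp, ← Functor.map_mul]
      congr 2
      rw [Hom.mul_def, lift_fst_snd, Category.id_comp]
    rw [← h1]
    exact hm' j
  · obtain ⟨m, hm, hm'⟩ := hone
    have h1 : m = η[X] := by
      apply hinj _ (inferInstanceAs (Flat (𝟙 S)))
      dsimp only
      rw [← cancel_mono (genIso ha).hom, hm, one_eq_one, Functor.map_one, MonObj.one_comp]
    rw [← h1]
    exact hm' j

end Point

end Groth.Agent.Sga7.H736.GrpGlue
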