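import Groth.Agent.Sga7.H736.GrpGlue

/-!
# Gluing group schemes over a locally directed open covering of the base (main statement)
-/

set_option autoImplicit false
universe u

open CategoryTheory CategoryTheory.Limits AlgebraicGeometry MonoidalCategory
  CartesianMonoidalCategory MonObj GrpObj

namespace Groth.Agent.Sga7.H736.GrpGlue

open Groth.Agent.Sga7.H516 Groth.Agent.Sga7.H516.GenExt Groth.Agent.Sga7.H116.L1 RelGlue LocExt
open Groth.Agent.Sga7.H516.GrpDescent (genIso genIso_hom_left)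

variable {S E : Scheme.{u}} {γ : E ⟶ S} {J : Type u} [Preorder J] {𝒰 : Dir S J}
  (κ : ∀ j, E ⟶ 𝒰.U j) [IsSchemeTheoreticallyDominant γ] [QuasiCompact γ] (hκ : ∀ j, κ j ≫ 𝒰.f j = γ)

omit [IsSchemeTheoreticallyDominant γ] [QuasiCompact γ] in
/-- Properties local on the target. -/
theorem prop_of_local (P : MorphismProperty Scheme.{u}) [IsZariskiLocalAtTarget P] {X : Scheme.{u}}
    (x : X ⟶ S) {Y : J → Scheme.{u}} {q : ∀ j, Y j ⟶ X} {y : ∀ j, Y j ⟶ 𝒰.U j}
    (hq : ∀ j, IsPullback (q j) (y j) x (𝒰.f j)) (h : ∀ j, P (y j)) : P x := by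
  refine (IsZariskiLocalAtTarget.iff_of_openCover (P := P) 𝒰.cover).mpr fun j => ?_
  change P (pullback.snd x (𝒰.f j))
  have h1 : (hq j).isoPullback.hom ≫ pullback.snd x (𝒰.f j) = y j := (hq j).isoPullback_hom_snd
  rw [← P.cancel_left_of_respectsIso (hq j).isoPullback.hom, h1]
  exact h j

include hκ in
/-- **Gluing of group schemes.**  Group schemes `G j` over the members of a locally directed covering,
with a common generic fibre `A`; for `i ≤ j` the scheme `G i` is the restriction of `G j` over `U i`,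
compatibly with the generic fibres. -/
theorem exists_glued [Nonempty E] (G : ∀ j, Over (𝒰.U j)) [∀ j, GrpObj (G j)] [∀ j, Flat (G j).hom]
    [∀ j, IsSeparated (G j).hom] {A : Over E} [GrpObj A] (e : ∀ j, Red.bc (κ j) (G j) ≅ A)
    [∀ j, IsMonHom (e j).hom]
    (hm : ∀ {i j : J} (h : i ≤ j), ∃ m : (G i).left ⟶ (G j).left,
      IsPullback m (G i).hom (G j).hom (𝒰.tr h) ∧ gen κ G e i ≫ m = gen κ G e j) :
    ∃ (X : Over S) (_ : GrpObj X) (eX : Red.bc γ X ≅ A), IsMonHom eX.hom ∧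
      ∀ j, ∃ (q : (G j).left ⟶ X.left) (hq : IsPullback q (G j).hom X.hom (𝒰.f j)),
        IsMonHom (genIso hq).hom := by
  have hJ : Nonempty J := by
    obtain ⟨x⟩ := ‹Nonempty E›
    obtain ⟨j, -⟩ := 𝒰.cov (γ x)
    exact ⟨j⟩
  -- uniqueness
  have huniq : ∀ {i j : J} (f g : (G i).left ⟶ (G j).left), f ≫ (G j).hom = g ≫ (G j).hom →
      gen κ G e i ≫ f = gen κ G e i ≫ g → f = g := by
    intro i j f g h1 h2
    have i1 : Flat ((G i).hom ≫ 𝒰.f i) := inferInstance
    have i2 : IsSeparated ((G j).hom ≫ 𝒰.f j) := inferInstance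
    have h3 : IsPullback (gen κ G e i) A.hom ((G i).hom ≫ 𝒰.f i) γ := by
      have h4 : IsPullback (𝟙 E) (κ i) γ (𝒰.f i) := by
        refine IsPullback.of_isLimit (c := PullbackCone.mk (𝟙 E) (κ i) (by simp [hκ])) ?_
        refine PullbackCone.IsLimit.mk _ (fun s => s.fst) ?_ ?_ ?_
        · intro s
          exact Category.comp_id _
        · intro s
          rw [← cancel_mono (𝒰.f i), Category.assoc, hκ, s.condition]
        · intro s m hm1 _
          rw [← hm1]
          exact (Category.comp_id _).symm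
      have h5 := (isPullback_gen κ G e i).paste_vert h4.flip
      rwa [Category.comp_id] at h5
    exact ext_of_generic (x := (G i).hom ≫ 𝒰.f i) (y := (G j).hom ≫ 𝒰.f j) h3
      (by rw [reassoc_of% h1]) h2
  let m : ∀ {i j : J}, i ≤ j → ((G i).left ⟶ (G j).left) := fun h => (hm h).choose
  have hm1 : ∀ {i j : J} (h : i ≤ j), IsPullback (m h) (G i).hom (G j).hom (𝒰.tr h) :=
    fun h => (hm h).choose_spec.1
  have hm2 : ∀ {i j : J} (h : i ≤ j), gen κ G e i ≫ m h = gen κ G e j :=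
    fun h => (hm h).choose_spec.2
  obtain ⟨X₀, x, q, hq, hqm⟩ := exists_glue 𝒰 (fun j => (G j).left) (fun j => (G j).hom) m hm1
    (fun i => huniq _ _ (by rw [(hm1 _).w, 𝒰.tr_refl, Category.comp_id, Category.id_comp])
      (by rw [hm2, Category.comp_id]))
    (fun {i j k} h h' => huniq _ _
      (by rw [(hm1 _).w, 𝒰.tr_trans h h', Category.assoc, (hm1 h').w, reassoc_of% (hm1 h).w])
      (by rw [hm2, reassoc_of% (hm2 h), hm2]))
  let X : Over S := Over.mk x
  have hq' : ∀ j, IsPullback (q j) (G j).hom X.hom (𝒰.f j) := hq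
  -- the generic fibre
  obtain ⟨j₀⟩ := hJ
  let a : A.left ⟶ X.left := gen κ G e j₀ ≫ q j₀
  have hgen : ∀ j, gen κ G e j ≫ q j = a := by
    intro j
    obtain ⟨z⟩ := ‹Nonempty E›
    obtain ⟨k, hk1, hk2, -⟩ := 𝒰.dir j j₀ (γ z)
      ⟨κ j z, by rw [← Scheme.Hom.comp_apply, hκ]⟩ ⟨κ j₀ z, by rw [← Scheme.Hom.comp_apply, hκ]⟩
    change _ = gen κ G e j₀ ≫ q j₀
    rw [← hm2 hk1, ← hm2 hk2, Category.assoc, Category.assoc, hqm, hqm]
  have ha : IsPullback a A.hom X.hom γ := by
    have h1 := (isPullback_gen κ G e j₀).flip.paste_vert (hq' j₀).flip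
    rw [hκ] at h1
    exact h1.flip
  have i1 : Flat X.hom := by
    exact prop_of_local @Flat X.hom hq' fun j => inferInstance
  have i2 : IsSeparated X.hom := by
    exact prop_of_local @IsSeparated X.hom hq' fun j => inferInstance
  have i3 : Nonempty J := ⟨j₀⟩
  obtain ⟨inst, h1, h2⟩ := exists_grpObj κ hκ ha hq' hgen
  exact ⟨X, inst, genIso ha, h1, fun j => ⟨q j, hq' j, h2 j⟩⟩

end Groth.Agent.Sga7.H736.GrpGlue
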