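import Mathlib.AlgebraicGeometry.RelativeGluing
import Mathlib.AlgebraicGeometry.Cover.Directed

/-!
# Gluing schemes over a directed open covering of the base, elementary form

`J` a preorder, `u j : U j ⟶ S` open immersions, monotone and locally directed, covering `S`;
`x j : X j ⟶ U j` with cartesian transition maps `m : X i ⟶ X j` for `i ≤ j`. Then there is
`g : G ⟶ S` with `G ×_S U j = X j`, compatibly.
-/

set_option autoImplicit false
universe u

open CategoryTheory CategoryTheory.Limits AlgebraicGeometry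

namespace Groth.Agent.Sga7.H736.RelGlue

variable {S : Scheme.{u}} {J : Type u} [Preorder J]

/-- A locally directed open covering of `S` indexed by the preorder `J`. -/
structure Dir (S : Scheme.{u}) (J : Type u) [Preorder J] where
  /-- the members -/
  U : J → Scheme.{u}
  /-- the inclusions -/
  f : ∀ j, U j ⟶ S
  op : ∀ j, IsOpenImmersion (f j)
  mono : ∀ {i j : J}, i ≤ j → Set.range (f i) ⊆ Set.range (f j)
  cov : ∀ s : S, ∃ j, s ∈ Set.range (f j)
  dir : ∀ (i j : J) (s : S), s ∈ Set.range (f i) → s ∈ Set.range (f j) →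
    ∃ k : J, k ≤ i ∧ k ≤ j ∧ s ∈ Set.range (f k)

attribute [instance] Dir.op

namespace Dir

variable (𝒰 : Dir S J)

/-- The transition maps. -/
noncomputable def tr {i j : J} (h : i ≤ j) : 𝒰.U i ⟶ 𝒰.U j :=
  IsOpenImmersion.lift (𝒰.f j) (𝒰.f i) (𝒰.mono h)

@[reassoc (attr := simp)]
theorem tr_f {i j : J} (h : i ≤ j) : 𝒰.tr h ≫ 𝒰.f j = 𝒰.f i :=
  IsOpenImmersion.lift_fac _ _ _

instance {i j : J} (h : i ≤ j) : IsOpenImmersion (𝒰.tr h) := by
  have : IsOpenImmersion (𝒰.tr h ≫ 𝒰.f j) := by rw [tr_f]; infer_instance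
  exact IsOpenImmersion.of_comp _ (𝒰.f j)

theorem tr_refl (i : J) : 𝒰.tr (le_refl i) = 𝟙 _ := by
  rw [← cancel_mono (𝒰.f i), tr_f, Category.id_comp]

theorem tr_trans {i j k : J} (h : i ≤ j) (h' : j ≤ k) : 𝒰.tr (h.trans h') = 𝒰.tr h ≫ 𝒰.tr h' := by
  rw [← cancel_mono (𝒰.f k), tr_f, Category.assoc, tr_f, tr_f]

theorem exists_lift (i j : J) (x : (pullback (𝒰.f i) (𝒰.f j) : Scheme.{u})) :
    ∃ (k : J) (hki : k ⟶ i) (hkj : k ⟶ j) (y : 𝒰.U k),
      pullback.lift (𝒰.tr (leOfHom hki)) (𝒰.tr (leOfHom hkj)) (by simp) y = x := by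
  have hx : (𝒰.f i) (pullback.fst (𝒰.f i) (𝒰.f j) x) = (𝒰.f j) (pullback.snd (𝒰.f i) (𝒰.f j) x) := by
    rw [← Scheme.Hom.comp_apply, pullback.condition, Scheme.Hom.comp_apply]
  obtain ⟨k, hki, hkj, ⟨y, hy⟩⟩ := 𝒰.dir i j ((𝒰.f i) (pullback.fst (𝒰.f i) (𝒰.f j) x))
    ⟨_, rfl⟩ ⟨_, hx.symm⟩
  refine ⟨k, homOfLE hki, homOfLE hkj, y, ?_⟩
  apply (pullback.fst (𝒰.f i) (𝒰.f j)).injective
  apply (𝒰.f i).injective
  rw [← hy, ← Scheme.Hom.comp_apply, ← Scheme.Hom.comp_apply, pullback.lift_fst_assoc, 𝒰.tr_f]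

/-- The associated open cover. -/
@[simps I₀ X f]
noncomputable def cover : S.OpenCover where
  I₀ := J
  X j := 𝒰.U j
  f j := 𝒰.f j
  mem₀ := by
    rw [Scheme.presieve₀_mem_precoverage_iff]
    exact ⟨fun s => 𝒰.cov s, fun j => 𝒰.op j⟩

noncomputable instance : Category 𝒰.cover.I₀ := inferInstanceAs (Category J)

noncomputable instance : 𝒰.cover.LocallyDirected where
  trans a := 𝒰.tr (leOfHom a)
  trans_id i := 𝒰.tr_refl i
  trans_comp a b := 𝒰.tr_trans (leOfHom a) (leOfHom b)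
  w a := 𝒰.tr_f (leOfHom a)
  directed x := 𝒰.exists_lift _ _ x
  property_trans a := inferInstanceAs (IsOpenImmersion (𝒰.tr (leOfHom a)))

end Dir

theorem exists_of_data {𝒱 : S.OpenCover} [Category 𝒱.I₀] [𝒱.LocallyDirected] [Small.{u} 𝒱.I₀]
    [Quiver.IsThin 𝒱.I₀] (d : 𝒱.RelativeGluingData) :
    ∃ (G : Scheme.{u}) (g : G ⟶ S) (ι : ∀ j, d.functor.obj j ⟶ G),
      (∀ j, IsPullback (ι j) (d.natTrans.app j) g (𝒱.f j)) ∧
      (∀ {i j : 𝒱.I₀} (h : i ⟶ j), d.functor.map h ≫ ι j = ι i) :=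
  ⟨d.glued, d.toBase, fun j => colimit.ι d.functor j,
    fun j => (d.isPullback_natTrans_ι_toBase j).flip, fun h => colimit.w d.functor h⟩

/-- **Relative gluing.** -/
theorem exists_glue (𝒰 : Dir S J) (X : J → Scheme.{u}) (x : ∀ j, X j ⟶ 𝒰.U j)
    (m : ∀ {i j : J}, i ≤ j → (X i ⟶ X j)) (hm : ∀ {i j : J} (h : i ≤ j), IsPullback (m h) (x i) (x j) (𝒰.tr h))
    (m_refl : ∀ i, m (le_refl i) = 𝟙 (X i))
    (m_trans : ∀ {i j k : J} (h : i ≤ j) (h' : j ≤ k), m (h.trans h') = m h ≫ m h') :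
    ∃ (G : Scheme.{u}) (g : G ⟶ S) (ι : ∀ j, X j ⟶ G),
      (∀ j, IsPullback (ι j) (x j) g (𝒰.f j)) ∧ (∀ {i j : J} (h : i ≤ j), m h ≫ ι j = ι i) := by
  have i1 : Small.{u} 𝒰.cover.I₀ := inferInstanceAs (Small.{u} J)
  have i2 : Quiver.IsThin 𝒰.cover.I₀ := inferInstanceAs (Quiver.IsThin J)
  obtain ⟨G, g, ι, h1, h2⟩ := exists_of_data (𝒱 := 𝒰.cover)
    { functor :=
        { obj := X
          map := fun {i j} a => m (leOfHom (a : (i : J) ⟶ (j : J)))
          map_id := fun i => m_refl i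
          map_comp := fun {i j k} a b => m_trans (leOfHom (a : (i : J) ⟶ (j : J))) (leOfHom (b : (j : J) ⟶ (k : J))) }
      natTrans := 
        { app := fun i => x i
          naturality := fun i j a => (hm (leOfHom (a : (i : J) ⟶ (j : J)))).w }
      equifibered := fun i j a => (hm (leOfHom (a : (i : J) ⟶ (j : J)))) }
  exact ⟨G, g, ι, h1, fun {i j} h => h2 (homOfLE h : (i : J) ⟶ (j : J))⟩

end Groth.Agent.Sga7.H736.RelGlue
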