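import Groth.Agent.Sga7.H516.GrpDescent
import Groth.Agent.Sga7.H736.RelGlue

/-!
# Extension of generic morphisms is local on the base; gluing of group schemes

`γ : E ⟶ S` quasi-compact and schematically dominant (the generic point), `𝒰` a locally directed
open covering of `S` through which `γ` factors.
-/

set_option autoImplicit false
universe u

open CategoryTheory CategoryTheory.Limits AlgebraicGeometry MonoidalCategory
  CartesianMonoidalCategory MonObj GrpObj

namespace Groth.Agent.Sga7.H736.LocExt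

open Groth.Agent.Sga7.H516.GenExt Groth.Agent.Sga7.H116.L1 RelGlue
open Groth.Agent.Sga7.H516.GrpDescent (genIso genIso_hom_left)
open Groth.Agent.Sga3B.BcPts

variable {S E : Scheme.{u}} {γ : E ⟶ S} {J : Type u} [Preorder J] (𝒰 : Dir S J)
  [IsSchemeTheoreticallyDominant γ] [QuasiCompact γ]
  (κ : ∀ j, E ⟶ 𝒰.U j) (hκ : ∀ j, κ j ≫ 𝒰.f j = γ)

include hκ in
/-- Morphisms given generically which extend locally on the base extend. -/
theorem exists_of_local [Nonempty J] {T TE Y : Scheme.{u}} {t : T ⟶ S} [Flat t] {y : Y ⟶ S}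
    [IsSeparated y] {jt : TE ⟶ T} {tE : TE ⟶ E} (hT : IsPullback jt tE t γ) (f : TE ⟶ Y)
    (c : ∀ j, pullback t (𝒰.f j) ⟶ Y) (hc : ∀ j, c j ≫ y = pullback.fst _ _ ≫ t)
    (hc' : ∀ (j) (w : TE ⟶ pullback t (𝒰.f j)), w ≫ pullback.fst _ _ = jt → w ≫ c j = f) :
    ∃ d : T ⟶ Y, d ≫ y = t ∧ jt ≫ d = f ∧ ∀ j, pullback.fst t (𝒰.f j) ≫ d = c j := by
  have hw : ∀ j, ∃ w : TE ⟶ pullback t (𝒰.f j), w ≫ pullback.fst _ _ = jt := fun j =>
    ⟨pullback.lift jt (tE ≫ κ j) (by rw [Category.assoc, hκ, hT.w]), pullback.lift_fst _ _ _⟩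
  choose w hw using hw
  have hov : ∀ i j, pullback.fst (pullback.fst t (𝒰.f i)) (pullback.fst t (𝒰.f j)) ≫ c i =
      pullback.snd _ _ ≫ c j := by
    intro i j
    let a : pullback (pullback.fst t (𝒰.f i)) (pullback.fst t (𝒰.f j)) ⟶ _ := pullback.fst _ _
    let b : pullback (pullback.fst t (𝒰.f i)) (pullback.fst t (𝒰.f j)) ⟶ _ := pullback.snd _ _
    have hab : a ≫ pullback.fst t (𝒰.f i) = b ≫ pullback.fst t (𝒰.f j) := pullback.condition
    let z := a ≫ pullback.fst t (𝒰.f i) ≫ t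
    have hz : Flat z := inferInstance
    let r : pullback z γ ⟶ TE := hT.lift (pullback.fst z γ ≫ a ≫ pullback.fst t (𝒰.f i))
      (pullback.snd z γ) (by
        rw [Category.assoc, Category.assoc]
        exact pullback.condition)
    have hr : r ≫ jt = pullback.fst z γ ≫ a ≫ pullback.fst t (𝒰.f i) := hT.lift_fst _ _ _
    have h1 : pullback.fst z γ ≫ a = r ≫ w i := by
      rw [← cancel_mono (pullback.fst t (𝒰.f i)), Category.assoc, Category.assoc, hw, hr]
    have h2 : pullback.fst z γ ≫ b = r ≫ w j := by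
      rw [← cancel_mono (pullback.fst t (𝒰.f j)), Category.assoc, Category.assoc, hw, hr, hab]
    refine ext_of_schemeDominant (pullback.fst z γ) y _ _ ?_ ?_
    · rw [Category.assoc, hc, Category.assoc, hc]
      change a ≫ pullback.fst t (𝒰.f i) ≫ t = b ≫ pullback.fst t (𝒰.f j) ≫ t
      rw [reassoc_of% hab]
    · change pullback.fst z γ ≫ a ≫ c i = pullback.fst z γ ≫ b ≫ c j
      rw [reassoc_of% h1, reassoc_of% h2, hc' i _ (hw i), hc' j _ (hw j)]
  let 𝒱 : T.OpenCover := 𝒰.cover.pullback₁ t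
  let d : T ⟶ Y := Scheme.Cover.glueMorphisms 𝒱 c hov
  have hd : ∀ j, pullback.fst t (𝒰.f j) ≫ d = c j := fun j =>
    Scheme.Cover.ι_glueMorphisms 𝒱 c hov j
  refine ⟨d, ?_, ?_, hd⟩
  · refine Scheme.Cover.hom_ext 𝒱 _ _ fun j => ?_
    change pullback.fst t (𝒰.f j) ≫ d ≫ y = pullback.fst t (𝒰.f j) ≫ t
    rw [reassoc_of% (hd j), hc]
  · obtain ⟨j⟩ := ‹Nonempty J›
    rw [← hw j, Category.assoc, hd, hc' j _ (hw j)]

end Groth.Agent.Sga7.H736.LocExt
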