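import Groth.Agent.Sga7.H736.QCFin
import Groth.Agent.Sga7.H750.Conv
import Groth.Agent.Sga7.H750.LawOps

/-!
# Finitely many classes of translates of a minimal chart: the input of the quasi-compactness of the Neron model
-/

set_option autoImplicit false
universe u v

open CategoryTheory CategoryTheory.Limits AlgebraicGeometry MonoidalCategory CartesianMonoidalCategory
open scoped MonObj

namespace Groth.Agent.Sga7.H736.QC1

open Groth.Agent.Sga7.H750 GenOv LocVal Conv LawOps Groth.Agent.Dix.GenFibre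
open Groth.Agent.Sga7.H244.Charts (Chart IsMinimal gen)

variable {R : Type u} [CommRing R] [IsDomain R] [IsLocalRing R]

local notation "𝒮" => Over (Spec (CommRingCat.of R))
local notation "𝒦" => Over (Spec (CommRingCat.of (FractionRing R)))
local notation "F" => Neron.genericFibre R

variable {A : Over (Spec (CommRingCat.of (FractionRing R)))} [GrpObj A] {I : Type v}
  {Y : I → Chart R (FractionRing R) A} {C : Chart R (FractionRing R) A} {ζ : C.X}

/-- The field `trans` of a minimal chart in functorial form. -/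
theorem trans_functorial (h : IsMinimal Y C ζ) (c : 𝟙_ 𝒦 ⟶ A) :
    ∃ (i : I) (V : 𝒮) (a : V ⟶ Over.mk C.x) (g : V ⟶ Over.mk (Y i).x) (v : V.left),
      IsOpenImmersion a.left ∧ IsOpenImmersion g.left ∧ a.left v = ζ ∧
      (F).map g ≫ chartMap (Y i) = ((F).map a ≫ chartMap C) * (toUnit _ ≫ c) := by
  obtain ⟨i, V, hζ, g, hg, hgx, hpt⟩ := h.trans c
  refine ⟨i, Over.mk (V.ι ≫ C.x), Over.homMk V.ι rfl, Over.homMk g hgx, ⟨ζ, hζ⟩,
    inferInstanceAs (IsOpenImmersion V.ι), hg, rfl, ?_⟩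
  rw [map_chartMap, map_chartMap]
  exact hpt _ (genι (Over.mk (V.ι ≫ C.x))) _ _

/-- Finitely many classes of translates, Noetherian form. -/
theorem qc1' [Finite I] (h : IsMinimal Y C ζ) (hY : ∀ i, TopologicalSpace.NoetherianSpace (Y i).X) :
    ∃ (n : ℕ) (c : Fin n → (𝟙_ 𝒦 ⟶ A)), ∀ c' : 𝟙_ 𝒦 ⟶ A, ∃ k,
      Val (chartMap C) (chartMap C ≫ T (c' * (c k)⁻¹)) ζ ζ := by
  have hY' : ∀ i, TopologicalSpace.NoetherianSpace (Over.mk (Y i).x).left := hY
  obtain ⟨D, hD, hDc⟩ := QCFin.exists_finite (fun i => Over.mk (Y i).x) (fun i => chartMap (Y i)) (Over.mk C.x)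
    (chartMap C) (IsLocalRing.closedPoint R) (IsLocalRing.isClosed_singleton_closedPoint R) ζ h.over h.generic
    (trans_functorial h)
  have := hD.to_subtype
  obtain ⟨n, ⟨σ⟩⟩ := Finite.exists_equiv_fin D
  refine ⟨n, fun k => (σ.symm k).1, fun c' => ?_⟩
  obtain ⟨d, hd, T', a, b, t, ha, hb, hat, hbt, he⟩ := hDc c'
  refine ⟨σ ⟨d, hd⟩, T', a, b, t, ha, hat, hbt, ?_⟩
  have hk : ((σ.symm (σ ⟨d, hd⟩) : D) : 𝟙_ 𝒦 ⟶ A) = d := by rw [Equiv.symm_apply_apply]
  change (F).map b ≫ chartMap C = (F).map a ≫ chartMap C ≫ T (c' * ((σ.symm (σ ⟨d, hd⟩) : D) : 𝟙_ 𝒦 ⟶ A)⁻¹)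
  rw [hk, ← Category.assoc, comp_T, cst_mul, cst_inv, ← mul_assoc, eq_mul_inv_iff_mul_eq]
  exact he.symm

/-- Finitely many classes of translates. -/
theorem qc1 [IsNoetherianRing R] [Finite I] (h : IsMinimal Y C ζ) (hY : ∀ i, QuasiCompact (Y i).x)
    (hY' : ∀ i, LocallyOfFiniteType (Y i).x) :
    ∃ (n : ℕ) (c : Fin n → (𝟙_ 𝒦 ⟶ A)), ∀ c' : 𝟙_ 𝒦 ⟶ A, ∃ k,
      Val (chartMap C) (chartMap C ≫ T (c' * (c k)⁻¹)) ζ ζ := by
  refine qc1' h fun i => ?_
  have := hY i
  have := hY' i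
  have h1 : IsLocallyNoetherian (Y i).X := LocallyOfFiniteType.isLocallyNoetherian (Y i).x
  have h2 : CompactSpace (Y i).X := QuasiCompact.compactSpace_of_compactSpace (Y i).x
  have h3 : IsNoetherian (Y i).X := ⟨⟩
  infer_instance

end Groth.Agent.Sga7.H736.QC1
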