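import Groth.Agent.Sga7.H750.GenOv
import Mathlib.CategoryTheory.Monoidal.Cartesian.Over
import Mathlib.CategoryTheory.Monoidal.Cartesian.Grp
import Mathlib.AlgebraicGeometry.Noetherian
import Mathlib.AlgebraicGeometry.PullbackCarrier
import Mathlib.Topology.Sober

/-!
# Finitely many classes of translates of a minimal chart
-/

set_option autoImplicit false
universe u v

open CategoryTheory CategoryTheory.Limits AlgebraicGeometry MonoidalCategory CartesianMonoidalCategory MonObj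

namespace Groth.Agent.Sga7.H736.QCFin

open Groth.Agent.Sga7.H750.GenOv Groth.Agent.Dix.GenFibre

/-- The maximal points of a closed subset of a Noetherian sober space are finite in number. -/
theorem finite_maxPts {Y : Type*} [TopologicalSpace Y] [TopologicalSpace.NoetherianSpace Y] [QuasiSober Y]
    [T0Space Y] (Z : Set Y) (hZ : IsClosed Z) : {y | y ∈ Z ∧ ∀ y' ∈ Z, y' ⤳ y → y' = y}.Finite := by
  obtain ⟨S, hSf, hSc, hS, hSZ⟩ :=
    TopologicalSpace.NoetherianSpace.exists_finite_set_isClosed_irreducible hZ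
  have h : {y | y ∈ Z ∧ ∀ y' ∈ Z, y' ⤳ y → y' = y} ⊆ ⋃ s ∈ S, {y | closure {y} = s} := by
    rintro y ⟨hy, hmax⟩
    obtain ⟨s, hs, hys⟩ := Set.mem_sUnion.1 (hSZ ▸ hy : y ∈ ⋃₀ S)
    simp only [Set.mem_iUnion]
    refine ⟨s, hs, ?_⟩
    change closure {y} = s
    obtain ⟨w, hw⟩ := QuasiSober.sober (hS s hs) (hSc s hs)
    have hw' : closure {w} = s := hw
    have h1 : w ⤳ y := by
      rw [specializes_iff_mem_closure, hw']
      exact hys
    have h2 : w ∈ Z := by
      rw [hSZ]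
      exact ⟨s, hs, by rw [← hw']; exact subset_closure rfl⟩
    rw [← hmax w h2 h1]
    exact hw'
  refine Set.Finite.subset ?_ h
  refine hSf.biUnion fun s _ => Set.Subsingleton.finite ?_
  intro y hy y' hy'
  exact (inseparable_iff_closure_eq.2 (hy.trans hy'.symm)).eq

variable {R : Type u} [CommRing R]

local notation "𝒮" => Over (Spec (CommRingCat.of R))
local notation "𝒦" => Over (Spec (CommRingCat.of (FractionRing R)))
local notation "F" => Neron.genericFibre R

/-- Open immersions into `Y` of a neighbourhood of a maximal point of the fibre of `X` have values in the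
maximal points of the fibre of `Y`. -/
theorem isMax_apply {Y X V : 𝒮} (s : Spec (CommRingCat.of R)) (x₀ : X.left)
    (hx : ∀ y : X.left, X.hom y = s → x₀ ⤳ y) (a : V ⟶ X) (g : V ⟶ Y) (ha : IsOpenImmersion a.left)
    (hg : IsOpenImmersion g.left) (v : V.left) (hv : a.left v = x₀) (y' : Y.left) (hy' : Y.hom y' = s)
    (h : y' ⤳ g.left v) : y' = g.left v := by
  have h1 : y' ∈ Set.range g.left :=
    h.mem_open g.left.isOpenEmbedding.isOpen_range ⟨v, rfl⟩
  obtain ⟨v', rfl⟩ := h1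
  have h2 : v' ⤳ v := g.left.isOpenEmbedding.isInducing.specializes_iff.1 h
  have h3 : a.left v' ⤳ x₀ := by
    rw [← hv]
    exact h2.map a.left.continuous
  have h4 : x₀ ⤳ a.left v' := hx _ (by
    rw [← hy', ← Scheme.Hom.comp_apply, ← Scheme.Hom.comp_apply, Over.w, Over.w])
  have h5 : a.left v' = a.left v := by
    rw [hv]
    exact (h3.antisymm h4).eq
  rw [a.left.isOpenEmbedding.injective h5]

/-- Two translates with neighbourhoods of the generic point embedded in the same chart with the same value. -/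
theorem exists_pair {I : Type v} {A : 𝒦} [GrpObj A] (Y : I → 𝒮) (ψ : ∀ i, (F).obj (Y i) ⟶ A) (X : 𝒮)
    (ξ : (F).obj X ⟶ A) (c c' : 𝟙_ 𝒦 ⟶ A) (i i' : I) {V V' : 𝒮} (a : V ⟶ X) (a' : V' ⟶ X)
    (g : V ⟶ Y i) (g' : V' ⟶ Y i')
    (v : V.left) (v' : V'.left) (ha : IsOpenImmersion a.left) (ha' : IsOpenImmersion a'.left)
    (hg : IsOpenImmersion g.left) (hg' : IsOpenImmersion g'.left)
    (h : (⟨i, g.left v⟩ : Σ i, (Y i).left) = ⟨i', g'.left v'⟩)
    (hF : (F).map g ≫ ψ i = ((F).map a ≫ ξ) * (toUnit _ ≫ c))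
    (hF' : (F).map g' ≫ ψ i' = ((F).map a' ≫ ξ) * (toUnit _ ≫ c')) :
    ∃ (T : 𝒮) (b b' : T ⟶ X) (t : T.left), IsOpenImmersion b.left ∧ IsOpenImmersion b'.left ∧
      b.left t = a.left v ∧ b'.left t = a'.left v' ∧
      ((F).map b ≫ ξ) * (toUnit _ ≫ c) = ((F).map b' ≫ ξ) * (toUnit _ ≫ c') := by
  obtain rfl : i = i' := congrArg Sigma.fst h
  have h' : g.left v = g'.left v' := eq_of_heq (Sigma.mk.inj_iff.1 h).2
  obtain ⟨t, ht1, ht2⟩ := Scheme.Pullback.exists_preimage_pullback (f := g.left) (g := g'.left) v v' h'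
  let T : 𝒮 := Over.mk (pullback.fst g.left g'.left ≫ V.hom)
  let p : T ⟶ V := Over.homMk (pullback.fst g.left g'.left) rfl
  let q : T ⟶ V' := Over.homMk (pullback.snd g.left g'.left) (by
    change pullback.snd g.left g'.left ≫ V'.hom = pullback.fst g.left g'.left ≫ V.hom
    rw [← Over.w g, pullback.condition_assoc, Over.w])
  have hpq : p ≫ g = q ≫ g' := Over.OverMorphism.ext pullback.condition
  have hp : IsOpenImmersion p.left := inferInstanceAs (IsOpenImmersion (pullback.fst g.left g'.left))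
  have hq : IsOpenImmersion q.left := inferInstanceAs (IsOpenImmersion (pullback.snd g.left g'.left))
  refine ⟨T, p ≫ a, q ≫ a', t, isOpenImmersion_comp _ _ hp ha, isOpenImmersion_comp _ _ hq ha', ?_, ?_, ?_⟩
  · rw [Over.comp_left, Scheme.Hom.comp_apply]
    exact congrArg a.left ht1
  · rw [Over.comp_left, Scheme.Hom.comp_apply]
    exact congrArg a'.left ht2
  · have h1 : (F).map p ≫ (F).map g ≫ ψ i = (F).map q ≫ (F).map g' ≫ ψ i := by
      rw [← Functor.map_comp_assoc, hpq, Functor.map_comp_assoc]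
    rw [hF, hF', comp_mul, comp_mul, comp_toUnit_assoc, comp_toUnit_assoc] at h1
    rw [Functor.map_comp_assoc, Functor.map_comp_assoc]
    exact h1

/-- **Finitely many classes of translates.** -/
theorem exists_finite {I : Type v} [Finite I] {A : 𝒦} [GrpObj A] (Y : I → 𝒮)
    [∀ i, TopologicalSpace.NoetherianSpace (Y i).left]
    (ψ : ∀ i, (F).obj (Y i) ⟶ A) (X : 𝒮) (ξ : (F).obj X ⟶ A) (s : Spec (CommRingCat.of R))
    (hs : IsClosed ({s} : Set (Spec (CommRingCat.of R)))) (x₀ : X.left) (hx₀ : X.hom x₀ = s)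
    (hx : ∀ y : X.left, X.hom y = s → x₀ ⤳ y)
    (htrans : ∀ c : 𝟙_ 𝒦 ⟶ A, ∃ (i : I) (V : 𝒮) (a : V ⟶ X) (g : V ⟶ Y i) (v : V.left),
      IsOpenImmersion a.left ∧ IsOpenImmersion g.left ∧ a.left v = x₀ ∧
      (F).map g ≫ ψ i = ((F).map a ≫ ξ) * (toUnit _ ≫ c)) :
    ∃ C : Set (𝟙_ 𝒦 ⟶ A), C.Finite ∧ ∀ c, ∃ c' ∈ C, ∃ (T : 𝒮) (a b : T ⟶ X) (t : T.left),
      IsOpenImmersion a.left ∧ IsOpenImmersion b.left ∧ a.left t = x₀ ∧ b.left t = x₀ ∧
      ((F).map a ≫ ξ) * (toUnit _ ≫ c) = ((F).map b ≫ ξ) * (toUnit _ ≫ c') := by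
  choose idx V a g v ha hg hv hF using htrans
  let M : Set (Σ i, (Y i).left) := ⋃ i, Sigma.mk i '' {y | y ∈ (Y i).hom ⁻¹' {s} ∧
    ∀ y' ∈ (Y i).hom ⁻¹' {s}, y' ⤳ y → y' = y}
  have hM : M.Finite := Set.finite_iUnion fun i => (finite_maxPts _ (hs.preimage (Y i).hom.continuous)).image _
  let p : (𝟙_ 𝒦 ⟶ A) → Σ i, (Y i).left := fun c => ⟨idx c, (g c).left (v c)⟩
  have hp : Set.range p ⊆ M := by
    rintro _ ⟨c, rfl⟩
    refine Set.mem_iUnion.2 ⟨idx c, _, ⟨?_, ?_⟩, rfl⟩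
    · change (Y (idx c)).hom ((g c).left (v c)) = s
      rw [← Scheme.Hom.comp_apply, Over.w, ← Over.w (a c), Scheme.Hom.comp_apply, hv, hx₀]
    · intro y' hy' h
      exact isMax_apply s x₀ hx (a c) (g c) (ha c) (hg c) (v c) (hv c) y' hy' h
  have hfin : (Set.range p).Finite := hM.subset hp
  obtain ⟨C, -, hC, hCp⟩ := Set.Finite.exists_subset_finite_image_eq (f := p) (s := Set.univ) hfin
    (by rw [Set.image_univ])
  refine ⟨C, hC, fun c => ?_⟩
  obtain ⟨c', hc', hcc⟩ : p c ∈ p '' C := by rw [hCp]; exact ⟨c, rfl⟩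
  obtain ⟨T, b, b', t, hb, hb', ht, ht', h⟩ := exists_pair Y ψ X ξ c c' (idx c) (idx c') (a c) (a c') (g c) (g c')
    (v c) (v c') (ha c) (ha c') (hg c) (hg c') hcc.symm (hF c) (hF c')
  exact ⟨c', hc', T, b, b', t, hb, hb', ht.trans (hv c), ht'.trans (hv c'), h⟩

end Groth.Agent.Sga7.H736.QCFin
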